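import Groth.Agent.ResProp.EF.Fin669.Fam
import Mathlib.RingTheory.MvPolynomial.Homogeneous
import Mathlib.RingTheory.Ideal.Maps

/-!
# Families of submodules with multiplication operators

`D` an `R`-algebra, `N` a `D`-module, `W n ≤ N` with `s i • W n ≤ W (n + 1)`: the family `W` with the operators
`s i`.  `finGen_of_homog` turns the output of `K860.T4` into `FinGen`, `noTors_sx` is the absence of torsion when the
`s i` generate the unit ideal.
-/

set_option autoImplicit false
universe u v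

open MvPolynomial

namespace Groth.Agent.ResProp.EF.Fin669

variable {R D N : Type*} [CommRing R] [CommRing D] [Algebra R D] [AddCommGroup N] [Module R N]
  [Module D N] [IsScalarTower R D N] {r : ℕ} (s : Fin r → D) (W : ℕ → Submodule R N)
  (hW : ∀ i n, ∀ y ∈ W n, s i • y ∈ W (n + 1))

/-- The operators given by multiplication with the `s i`. -/
def sx (i : Fin r) (n : ℕ) : W n →ₗ[R] W (n + 1) where
  toFun y := ⟨s i • (y : N), hW i n y y.2⟩
  map_add' a b := Subtype.ext (smul_add _ _ _)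
  map_smul' c a := Subtype.ext (smul_comm (s i) c (a : N))

theorem coe_sx (i : Fin r) (n : ℕ) (y : W n) : (sx s W hW i n y : N) = s i • (y : N) := rfl

theorem comm_sx : Comm (sx s W hW) := fun i i' _ v => Subtype.ext (smul_comm (s i) (s i') (v : N))

theorem coe_pw_sx (i : Fin r) (n k : ℕ) (y : W n) :
    ((pw (sx s W hW) i n k y : W (n + k)) : N) = s i ^ k • (y : N) := by
  induction k with
  | zero => simp
  | succ k ih =>
    change (sx s W hW i (n + k) (pw (sx s W hW) i n k y) : N) = _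
    rw [coe_sx, ih, pow_succ', mul_smul]

theorem noTors_sx (hs : Ideal.span (Set.range s) = ⊤) : NoTors (sx s W hW) := by
  intro n v hv
  choose k hk using hv
  apply Subtype.ext
  have h1 : ∀ i, s i ^ (∑ j, k j) • (v : N) = 0 := fun i => by
    have h0 : s i ^ k i • (v : N) = 0 := by rw [← coe_pw_sx s W hW, hk i]; rfl
    have hle : k i ≤ ∑ j, k j := Finset.single_le_sum (fun _ _ => Nat.zero_le _) (Finset.mem_univ i)
    rw [← Nat.sub_add_cancel hle, pow_add, mul_smul, h0, smul_zero]
  have h2 : (1 : D) ∈ Ideal.span ((fun a => a ^ (∑ j, k j)) '' Set.range s) := by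
    rw [Ideal.span_pow_eq_top _ hs]
    trivial
  have h3 : ∀ d ∈ Ideal.span ((fun a => a ^ (∑ j, k j)) '' Set.range s), d • (v : N) = 0 := by
    intro d hd
    induction hd using Submodule.span_induction with
    | mem x hx => obtain ⟨_, ⟨i, rfl⟩, rfl⟩ := hx; exact h1 i
    | zero => exact zero_smul _ _
    | add x y _ _ hx hy => rw [add_smul, hx, hy, add_zero]
    | smul a x _ hx => rw [smul_eq_mul, mul_smul, hx, smul_zero]
  have := h3 1 h2
  rwa [one_smul] at this

section

variable {t : ℕ} (deg : Fin t → ℕ) (y : ∀ l, W (deg l))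

/-- `z` is an element of `W m` generated by the `y l`. -/
def GenN (m : ℕ) (z : N) : Prop := ∃ h : z ∈ W m, Gen (sx s W hW) deg y m ⟨z, h⟩

theorem GenN.gen (l : Fin t) : GenN s W hW deg y (deg l) (y l : N) := ⟨(y l).2, Gen.gen l⟩

theorem GenN.zero (m : ℕ) : GenN s W hW deg y m 0 := ⟨zero_mem _, Gen.zero m⟩

variable {deg y s W hW}

theorem GenN.add {m : ℕ} {z w : N} (hz : GenN s W hW deg y m z) (hw : GenN s W hW deg y m w) :
    GenN s W hW deg y m (z + w) := by
  obtain ⟨h1, h2⟩ := hz
  obtain ⟨h3, h4⟩ := hw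
  exact ⟨add_mem h1 h3, Gen.add _ _ _ h2 h4⟩

theorem GenN.smul {m : ℕ} {z : N} (c : R) (hz : GenN s W hW deg y m z) :
    GenN s W hW deg y m (c • z) := by
  obtain ⟨h1, h2⟩ := hz
  exact ⟨Submodule.smul_mem _ c h1, Gen.smul _ c _ h2⟩

theorem GenN.s_smul {m : ℕ} {z : N} (i : Fin r) (hz : GenN s W hW deg y m z) :
    GenN s W hW deg y (m + 1) (s i • z) := by
  obtain ⟨h1, h2⟩ := hz
  exact ⟨hW i m z h1, Gen.x i _ _ h2⟩

theorem GenN.sum {m : ℕ} {κ : Type*} (S : Finset κ) (z : κ → N)
    (hz : ∀ a ∈ S, GenN s W hW deg y m (z a)) : GenN s W hW deg y m (∑ a ∈ S, z a) := by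
  classical
  induction S using Finset.induction_on with
  | empty => rw [Finset.sum_empty]; exact GenN.zero s W hW deg y m
  | insert a S ha ih =>
    rw [Finset.sum_insert ha]
    exact (hz a (Finset.mem_insert_self a S)).add
      (ih fun b hb => hz b (Finset.mem_insert_of_mem hb))

theorem GenN.monomial (e : Fin r →₀ ℕ) : ∀ (c : R) {m : ℕ} {z : N}, GenN s W hW deg y m z →
    GenN s W hW deg y (m + e.degree) (aeval s (MvPolynomial.monomial e c) • z) := by
  induction e using Finsupp.induction_linear with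
  | zero =>
    intro c m z hz
    have h1 : aeval s (MvPolynomial.monomial 0 c) • z = c • z := by
      rw [MvPolynomial.monomial_zero', aeval_C, algebraMap_smul]
    rw [h1, map_zero, add_zero]
    exact hz.smul c
  | add d e hd he =>
    intro c m z hz
    have h1 : (MvPolynomial.monomial (d + e) c : MvPolynomial (Fin r) R) =
        MvPolynomial.monomial d c * MvPolynomial.monomial e 1 := by
      rw [monomial_mul, mul_one]
    rw [h1, map_mul, mul_smul, map_add, add_comm d.degree, ← add_assoc]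
    exact hd c (he 1 hz)
  | single i n =>
    intro c m z hz
    rw [← C_mul_X_pow_eq_monomial, map_mul, map_pow, aeval_X, aeval_C, mul_smul, algebraMap_smul,
      Finsupp.degree_single]
    refine GenN.smul c ?_
    induction n with
    | zero => rw [pow_zero, one_smul, add_zero]; exact hz
    | succ n ih => rw [pow_succ', mul_smul, ← add_assoc]; exact ih.s_smul i

theorem GenN.aeval {P : MvPolynomial (Fin r) R} {d : ℕ} (hP : P.IsHomogeneous d) {m m' : ℕ} {z : N}
    (hz : GenN s W hW deg y m z) (hm : m + d = m') :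
    GenN s W hW deg y m' (MvPolynomial.aeval s P • z) := by
  have h1 : MvPolynomial.aeval s P • z =
      ∑ e ∈ P.support, MvPolynomial.aeval s (MvPolynomial.monomial e (coeff e P)) • z := by
    rw [← Finset.sum_smul, ← map_sum, ← P.as_sum]
  rw [h1]
  refine GenN.sum _ _ fun e he => ?_
  have h2 : e.degree = d := by
    have := hP (mem_support_iff.1 he)
    rw [← this, Finsupp.weight_apply, Finsupp.sum, Finsupp.degree_apply]
    simp
  rw [← hm, ← h2]
  exact GenN.monomial e _ hz

end

/-- The output of `K860.T4` gives finite generation up to torsion. -/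
theorem finGen_of_homog
    (h : ∃ (t : ℕ) (n : Fin t → ℕ) (y : Fin t → N), (∀ l, y l ∈ W (n l)) ∧
      ∀ (i : Fin r) (m : ℕ), ∀ y' ∈ W m, ∃ (k : ℕ) (d : Fin t → ℕ) (P : Fin t → MvPolynomial (Fin r) R),
        (∀ l, d l + n l = m + k) ∧ (∀ l, (P l).IsHomogeneous (d l)) ∧
        s i ^ k • y' = ∑ l, MvPolynomial.aeval s (P l) • y l) :
    FinGen (sx s W hW) := by
  obtain ⟨t, n, y, hy, h⟩ := h
  refine ⟨t, n, fun l => ⟨y l, hy l⟩, fun m v i => ?_⟩
  obtain ⟨k, d, P, h1, h2, h3⟩ := h i m v v.2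
  refine ⟨k, ?_⟩
  have h4 : GenN s W hW n (fun l => ⟨y l, hy l⟩) (m + k)
      (∑ l, MvPolynomial.aeval s (P l) • y l) :=
    GenN.sum _ _ fun l _ => GenN.aeval (h2 l)
      (GenN.gen s W hW n (fun l => ⟨y l, hy l⟩) l) (by rw [← h1 l, add_comm])
  rw [← h3] at h4
  obtain ⟨h5, h6⟩ := h4
  have h7 : pw (sx s W hW) i m k v = ⟨s i ^ k • (v : N), h5⟩ := Subtype.ext (coe_pw_sx s W hW i m k v)
  rw [h7]
  exact h6

/-- The same from a `ℤ`-indexed family, as in `K860.T4`. -/
theorem finGen_of_homog_int (V : ℤ → Submodule R N) (hV : ∀ n : ℕ, W n = V n)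
    (h : ∃ (t : ℕ) (n : Fin t → ℕ) (y : Fin t → N), (∀ l, y l ∈ V (n l)) ∧
      ∀ (i : Fin r) (m : ℤ), ∀ y' ∈ V m, ∃ (k : ℕ) (d : Fin t → ℕ) (P : Fin t → MvPolynomial (Fin r) R),
        (∀ l, (d l : ℤ) + n l = m + k) ∧ (∀ l, (P l).IsHomogeneous (d l)) ∧
        s i ^ k • y' = ∑ l, MvPolynomial.aeval s (P l) • y l) :
    FinGen (sx s W hW) := by
  obtain ⟨t, n, y, hy, h⟩ := h
  refine finGen_of_homog s W hW ⟨t, n, y, fun l => by rw [hV]; exact hy l, fun i m y' hy' => ?_⟩
  obtain ⟨k, d, P, h1, h2, h3⟩ := h i (m : ℤ) y' (by rw [← hV]; exact hy')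
  exact ⟨k, d, P, fun l => by have := h1 l; omega, h2, h3⟩

end Groth.Agent.ResProp.EF.Fin669
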