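import Groth.Agent.ResProp.EF.Fin669.Fam

/-!
# Transport of `NoTors`, `FinGen` along isomorphisms of families
-/

set_option autoImplicit false
universe u v w

namespace Groth.Agent.ResProp.EF.Fin669

variable {R : Type u} [CommRing R] {r : ℕ} {V : ℕ → Type v} [∀ n, AddCommGroup (V n)]
  [∀ n, Module R (V n)] {W : ℕ → Type w} [∀ n, AddCommGroup (W n)] [∀ n, Module R (W n)]
  {x : Fin r → ∀ n, V n →ₗ[R] V (n + 1)} {x' : Fin r → ∀ n, W n →ₗ[R] W (n + 1)}
  (e : ∀ n, V n →ₗ[R] W n) (he : ∀ i n v, e (n + 1) (x i n v) = x' i n (e n v))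

include he

theorem map_pw (i : Fin r) (n k : ℕ) (v : V n) : e (n + k) (pw x i n k v) = pw x' i n k (e n v) := by
  induction k with
  | zero => rfl
  | succ k ih =>
    change e (n + k + 1) (x i (n + k) (pw x i n k v)) = x' i (n + k) (pw x' i n k (e n v))
    rw [he, ih]

theorem Gen.map {t : ℕ} {deg : Fin t → ℕ} {y : ∀ l, V (deg l)} {n : ℕ} {v : V n}
    (h : Gen x deg y n v) : Gen x' deg (fun l => e (deg l) (y l)) n (e n v) := by
  induction h with
  | gen l => exact Gen.gen l
  | x i n v _ ih => rw [he]; exact Gen.x i _ _ ih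
  | zero n => rw [map_zero]; exact Gen.zero n
  | add n v w _ _ hv hw => rw [map_add]; exact Gen.add _ _ _ hv hw
  | smul n c v _ ih => rw [map_smul]; exact Gen.smul _ _ _ ih

theorem comm_of_injective (hi : ∀ n, Function.Injective (e n)) (h : Comm x') : Comm x := by
  intro i i' n v
  apply hi
  rw [he, he, he, he, h]

theorem comm_of_surjective (hs : ∀ n, Function.Surjective (e n)) (h : Comm x) : Comm x' := by
  intro i i' n w
  obtain ⟨v, rfl⟩ := hs n w
  rw [← he, ← he, ← he, ← he, h]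

theorem noTors_of_injective (hi : ∀ n, Function.Injective (e n)) (h : NoTors x') : NoTors x := by
  intro n v hv
  apply hi
  rw [map_zero]
  refine h n _ fun i => ?_
  obtain ⟨k, hk⟩ := hv i
  exact ⟨k, by rw [← map_pw e he, hk, map_zero]⟩

theorem finGen_of_surjective (hs : ∀ n, Function.Surjective (e n)) (h : FinGen x) : FinGen x' := by
  obtain ⟨t, deg, y, hy⟩ := h
  refine ⟨t, deg, fun l => e (deg l) (y l), fun n w i => ?_⟩
  obtain ⟨v, rfl⟩ := hs n w
  obtain ⟨k, hk⟩ := hy n v i
  refine ⟨k, ?_⟩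
  rw [← map_pw e he]
  exact Gen.map e he hk

end Groth.Agent.ResProp.EF.Fin669
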