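import Mathlib.LinearAlgebra.Span.Basic
import Mathlib.Algebra.Module.LinearMap.Basic

/-!
# Families with commuting operators

`V : ℕ → Type u` a family of `R`-modules with commuting operators `x i : V n → V (n + 1)`, `i : Fin r`.
Iterated operators `pw`, the family generated by finitely many elements (`Gen`).
-/

set_option autoImplicit false
universe u v

namespace Groth.Agent.ResProp.EF.Fin669

section

variable {R : Type u} [CommRing R] {r : ℕ} {V : ℕ → Type v} [∀ n, AddCommGroup (V n)]
  [∀ n, Module R (V n)] (x : Fin r → ∀ n, V n →ₗ[R] V (n + 1))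

/-- The operators commute. -/
def Comm : Prop := ∀ (i i' : Fin r) (n : ℕ) (v : V n),
  x i (n + 1) (x i' n v) = x i' (n + 1) (x i n v)

/-- The iterated operator `(x i)^k : V n → V (n + k)`. -/
def pw (i : Fin r) (n : ℕ) : (k : ℕ) → V n →ₗ[R] V (n + k)
  | 0 => LinearMap.id
  | k + 1 => (x i (n + k)) ∘ₗ (pw i n k)

@[simp] theorem pw_zero (i : Fin r) (n : ℕ) (v : V n) : pw x i n 0 v = v := rfl

theorem pw_succ (i : Fin r) (n k : ℕ) (v : V n) :
    pw x i n (k + 1) v = x i (n + k) (pw x i n k v) := rfl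

/-- The elements generated by the `y l` (of degree `deg l`). -/
inductive Gen {t : ℕ} (deg : Fin t → ℕ) (y : ∀ l, V (deg l)) : ∀ n : ℕ, V n → Prop
  | gen (l : Fin t) : Gen deg y (deg l) (y l)
  | x (i : Fin r) (n : ℕ) (v : V n) : Gen deg y n v → Gen deg y (n + 1) (x i n v)
  | zero (n : ℕ) : Gen deg y n 0
  | add (n : ℕ) (v w : V n) : Gen deg y n v → Gen deg y n w → Gen deg y n (v + w)
  | smul (n : ℕ) (c : R) (v : V n) : Gen deg y n v → Gen deg y n (c • v)

/-- `V` is, up to elements killed by powers of the operators, generated by finitely many elements. -/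
def FinGen : Prop := ∃ (t : ℕ) (deg : Fin t → ℕ) (y : ∀ l, V (deg l)),
  ∀ (n : ℕ) (v : V n) (i : Fin r), ∃ k : ℕ, Gen x deg y (n + k) (pw x i n k v)

/-- No element is killed by powers of all operators. -/
def NoTors : Prop := ∀ (n : ℕ) (v : V n), (∀ i : Fin r, ∃ k : ℕ, pw x i n k v = 0) → v = 0

/-- In all large degrees `V` is generated by finitely many elements. -/
def LargeGen : Prop := ∃ (t : ℕ) (deg : Fin t → ℕ) (y : ∀ l, V (deg l)) (n₀ : ℕ),
  ∀ n, n₀ ≤ n → ∀ v : V n, Gen x deg y n v

end

end Groth.Agent.ResProp.EF.Fin669
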