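import Groth.Agent.ResProp.EF.Fin669.Step
import Groth.Agent.ResProp.EF.K416.Tw
import Groth.Agent.ResProp.EF.K446.DevF

/-!
# The induction of the finiteness theorem (G6a, T6)

`c : CoAlg R A D`, `F : FinDatum R A D c`, `R` Noetherian, `A` flat over `R`.  `fin_induction`: for a finite Hopf module
`N` all `H^j(N(n))` are finite over `R`, given acyclicity up to powers of the `s_i` (`Ac`), absence of torsion and finite
generation up to torsion in degree zero.
-/

set_option autoImplicit false
universe u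

open TensorProduct

noncomputable section

namespace Groth.Agent.ResProp.EF.Fin669

open K83 K446

variable {R : Type u} [CommRing R] {A : Type u} [CommRing A] [HopfAlgebra R A] [Module.Flat R A]
  {D : Type u} [CommRing D] [Algebra R D] {c : CoAlg R A D}

/-- the sub Hopf module -/
def subHM (N : K416.HM c) (W : Submodule D N.V)
    (hW : @HopfRep.IsSubcomod R A _ _ _ _ N.V _ _ N.co (W.restrictScalars R)) : K416.HM c where
  V := W
  co := subC N.co W hW
  hm := isHopfMod_sub N.hm W hW

/-- the quotient Hopf module -/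
def quotHM (N : K416.HM c) (W : Submodule D N.V)
    (hW : @HopfRep.IsSubcomod R A _ _ _ _ N.V _ _ N.co (W.restrictScalars R)) : K416.HM c where
  V := N.V ⧸ W
  co := quotC N.co W hW
  hm := isHopfMod_quot N.hm W hW

theorem hses_sub (N : K416.HM c) (W : Submodule D N.V)
    (hW : @HopfRep.IsSubcomod R A _ _ _ _ N.V _ _ N.co (W.restrictScalars R)) :
    K416.HSES (N' := subHM N W hW) (N := N) (N'' := quotHM N W hW) W.subtype W.mkQ where
  hf := ch_inc N.co W hW
  hg := ch_pr N.co W hW
  inj := W.injective_subtype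
  surj := W.mkQ_surjective
  exact := exact_inc_pr (R := R) W

theorem coker_smul (N : K416.HM c) {s : D} {χ : A} (hs : c.ρ s = s ⊗ₜ[R] χ) (hinj : ∀ v : N.V, s • v = 0 → v = 0) :
    K416.Coker (N := N) (Q := quotHM N (imS N.V s) (sub_im N.hm hs)) s (imS N.V s).mkQ where
  hg := ch_pr N.co (imS N.V s) (sub_im N.hm hs)
  inj := hinj
  surj := (imS N.V s).mkQ_surjective
  exact := fun v => by
    have h : (imS N.V s).mkQ v = 0 ↔ v ∈ imS N.V s := Submodule.Quotient.mk_eq_zero _
    exact h.trans mem_imS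

/-- an element killed by powers of generators of the unit ideal is zero -/
theorem eq_zero_of_pow {N : Type u} [AddCommGroup N] [Module D N] {r : ℕ} (s : Fin r → D)
    (hs : Ideal.span (Set.range s) = ⊤) (v : N) (hv : ∀ i, ∃ k : ℕ, s i ^ k • v = 0) : v = 0 := by
  choose k hk using hv
  have h1 : ∀ i, s i ^ (∑ j, k j) • v = 0 := fun i => by
    have hle : k i ≤ ∑ j, k j := Finset.single_le_sum (fun _ _ => Nat.zero_le _) (Finset.mem_univ i)
    rw [← Nat.sub_add_cancel hle, pow_add, mul_smul, hk i, smul_zero]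
  have h2 : (1 : D) ∈ Ideal.span ((fun a => a ^ (∑ j, k j)) '' Set.range s) := by
    rw [Ideal.span_pow_eq_top _ hs]
    trivial
  have h3 : ∀ d ∈ Ideal.span ((fun a => a ^ (∑ j, k j)) '' Set.range s), d • v = 0 := by
    intro d hd
    induction hd using Submodule.span_induction with
    | mem x hx => obtain ⟨_, ⟨i, rfl⟩, rfl⟩ := hx; exact h1 i
    | zero => exact zero_smul _ _
    | add x y _ _ hx hy => rw [add_smul, hx, hy, add_zero]
    | smul a x _ hx => rw [smul_eq_mul, mul_smul, hx, smul_zero]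
  have := h3 1 h2
  rwa [one_smul] at this

omit [Module.Flat R A] in
theorem cochain_subsingleton (N : Type u) [AddCommGroup N] [Module R N] [Subsingleton N] (j : ℕ) :
    Subsingleton (Hoch.cochain R A N j : Type u) := by
  induction j with
  | zero => exact inferInstanceAs (Subsingleton N)
  | succ j ih => exact inferInstanceAs (Subsingleton ((Hoch.cochain R A N j : Type u) ⊗[R] A))

omit [Module.Flat R A] in
theorem H_subsingleton (N : Type u) [AddCommGroup N] [Module R N] [HopfRep.Comod R A N] [Subsingleton N] (j : ℕ) :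
    Subsingleton (Hoch.H R A N j) := by
  have := cochain_subsingleton (R := R) (A := A) N j
  refine ⟨fun a b => ?_⟩
  obtain ⟨a, rfl⟩ := K416.mk_surj R A j a
  obtain ⟨b, rfl⟩ := K416.mk_surj R A j b
  exact congrArg _ (Subtype.ext (Subsingleton.elim _ _))

variable (F : FinDatum R A D c)

/-- acyclicity up to powers of the `s i` -/
def AcHyp : Prop := ∀ (N : K416.HM c) (i : Fin (F.r + 1)) (j n : ℕ), 1 ≤ j → ∀ v : K416.Vf F.hχ N j n,
  ∃ k : ℕ, pw (V := fun n => K416.Vf F.hχ N j n) (fun i => K416.x F.hχ F.hs N i j) i n k v = 0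

/-- no torsion in degree zero -/
def NTHyp : Prop := ∀ N : K416.HM c, NoTors (V := fun n => K416.Vf F.hχ N 0 n) (fun i => K416.x F.hχ F.hs N i 0)

/-- finite generation in degree zero -/
def FGHyp : Prop := ∀ N : K416.HM c, Module.Finite D N.V →
  FinGen (V := fun n => K416.Vf F.hχ N 0 n) (fun i => K416.x F.hχ F.hs N i 0)

theorem fin_induction [IsNoetherianRing R] (hAc : AcHyp F) (hNT : NTHyp F) (hFG : FGHyp F) (m : ℕ) :
    ∀ S : Finset (Fin (F.r + 1)), S.card = m → ∀ N : K416.HM c, Module.Finite D N.V →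
      (∀ i, i ∉ S → ∀ v : N.V, ∃ k : ℕ, F.s i ^ k • v = 0) → Good R m (fun j n => K416.Vf F.hχ N j n) := by
  have := F.noeth
  induction m with
  | zero =>
    intro S hS N _ htor
    have hN : Subsingleton N.V := by
      refine ⟨fun a b => ?_⟩
      rw [← sub_eq_zero]
      exact eq_zero_of_pow F.s F.span _ fun i => htor i (by rw [Finset.card_eq_zero.1 hS]; exact Finset.notMem_empty i) _
    refine good_zero (fun j n v => ?_) 0
    have h1 : Subsingleton (N.tw F.hχ n).V := hN
    exact (H_subsingleton (R := R) (A := A) (N.tw F.hχ n).V j).elim v 0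
  | succ m ih =>
    intro S hS N hfin htor
    obtain ⟨i₀, hi₀⟩ : S.Nonempty := by
      rw [← Finset.card_pos, hS]
      exact Nat.succ_pos m
    have hS' : (S.erase i₀).card = m := by rw [Finset.card_erase_of_mem hi₀, hS, Nat.add_sub_cancel]
    have hNoeth : IsNoetherian D N.V := isNoetherian_of_isNoetherianRing_of_finite D N.V
    have hχu : IsUnit F.χ := F.hχ.isUnit
    let T := torS N.V (F.s i₀)
    have hT := sub_tor N.hm (F.hs i₀) hχu
    let NT := quotHM N T hT
    have hinj : ∀ v : NT.V, F.s i₀ • v = 0 → v = 0 := fun v hv =>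
      smul_injective_quot_torS (N := N.V) (F.s i₀) (hv.trans (smul_zero (F.s i₀)).symm)
    have hNTfin : Module.Finite D NT.V := inferInstanceAs (Module.Finite D (N.V ⧸ T))
    -- the torsion part
    have good_T : Good R m (fun j n => K416.Vf F.hχ (subHM N T hT) j n) := by
      refine ih (S.erase i₀) hS' (subHM N T hT) (inferInstanceAs (Module.Finite D T)) fun i hi v => ?_
      by_cases h : i = i₀
      · subst h
        obtain ⟨k, hk⟩ := mem_torS.1 (v : T).2
        exact ⟨k, Subtype.ext hk⟩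
      · obtain ⟨k, hk⟩ := htor i (fun hi' => hi (Finset.mem_erase.2 ⟨h, hi'⟩)) (T.subtype v)
        exact ⟨k, Subtype.ext hk⟩
    -- the cokernel of `s i₀`
    have hco := coker_smul NT (F.hs i₀) hinj
    let Q := quotHM NT (imS NT.V (F.s i₀)) (sub_im NT.hm (F.hs i₀))
    have good_Q : Good R m (fun j n => K416.Vf F.hχ (Q.tw F.hχ 1) j n) := by
      refine ih (S.erase i₀) hS' (Q.tw F.hχ 1)
        (inferInstanceAs (Module.Finite D (NT.V ⧸ imS NT.V (F.s i₀)))) fun i hi v => ?_
      obtain ⟨w, rfl⟩ := (imS NT.V (F.s i₀)).mkQ_surjective v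
      by_cases h : i = i₀
      · subst h
        refine ⟨1, ?_⟩
        refine Eq.trans (map_smul (imS NT.V (F.s i)).mkQ (F.s i ^ 1) w).symm ?_
        rw [pow_one]
        exact (Submodule.Quotient.mk_eq_zero _).2 (mem_imS.2 ⟨w, rfl⟩)
      · obtain ⟨u, rfl⟩ := T.mkQ_surjective w
        obtain ⟨k, hk⟩ := htor i (fun hi' => hi (Finset.mem_erase.2 ⟨h, hi'⟩)) u
        refine ⟨k, ?_⟩
        refine Eq.trans (map_smul (imS NT.V (F.s i₀)).mkQ (F.s i ^ k) (T.mkQ u)).symm ?_
        refine (congrArg _ (map_smul T.mkQ (F.s i ^ k) u).symm).trans ?_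
        rw [hk, map_zero]
        exact map_zero _
    have good_NT : Good R (m + 1) (fun j n => K416.Vf F.hχ NT j n) :=
      good_step (V := fun j n => K416.Vf F.hχ NT j n) (Q := fun j n => K416.Vf F.hχ (Q.tw F.hχ 1) j n)
        (K416.x F.hχ F.hs NT) (K416.x F.hχ F.hs (Q.tw F.hχ 1))
        (K416.comm F.hχ F.hs NT) (K416.comm F.hχ F.hs (Q.tw F.hχ 1)) i₀
        (fun j n => hco.a F.hχ j n) (fun j n => hco.del F.hχ F.hs j n)
        (fun i j n q => hco.hdel F.hχ F.hs i j n q)
        (fun j n => hco.ex2 F.hχ F.hs j n) (fun j n => hco.ex3 F.hχ F.hs j n)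
        (fun j hj n v => hAc NT i₀ j n hj v) (fun n v i => hAc NT i 1 n le_rfl v)
        (hNT NT) (hFG NT hNTfin) (hNT (Q.tw F.hχ 1))
        (hFG (Q.tw F.hχ 1) (inferInstanceAs (Module.Finite D (NT.V ⧸ imS NT.V (F.s i₀))))) good_Q
    have hS3 := hses_sub N T hT
    exact good_ext (V := fun j n => K416.Vf F.hχ N j n) (V' := fun j n => K416.Vf F.hχ (subHM N T hT) j n)
      (V'' := fun j n => K416.Vf F.hχ NT j n) (fun j n => K416.Vmap F.hχ hS3.hf j n)
      (fun j n => K416.Vmap F.hχ hS3.hg j n) (fun j n => hS3.exact_mid F.hχ j n)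
      (good_T.mono (Nat.le_succ m)) good_NT

omit [Module.Flat R A] in
/-- `twist` by a power `0` is the identity. -/
theorem tw_zero (N : K416.HM c) : (N.tw F.hχ 0).co = N.co := by
  have h : ∀ c₁ c₂ : HopfRep.Comod R A N.V, c₁.coact = c₂.coact → c₁ = c₂ := by
    rintro ⟨_, _, _⟩ ⟨_, _, _⟩ rfl
    rfl
  refine h _ _ (LinearMap.ext fun v => ?_)
  change (LinearMap.mulRight R _).lTensor N.V (N.co.coact v) = N.co.coact v
  rw [pow_zero]
  exact K416.lTensor_mulRight_one N.V _

theorem finite_of_hyp [IsNoetherianRing R] (hAc : AcHyp F) (hNT : NTHyp F) (hFG : FGHyp F) (N : K416.HM c)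
    (hfin : Module.Finite D N.V) (j : ℕ) : Module.Finite R (Hoch.H R A N.V j) := by
  have h1 := (fin_induction F hAc hNT hFG _ Finset.univ rfl N hfin
    (fun i hi => absurd (Finset.mem_univ i) hi)).fin j 0
  have h2 : ∀ c' : HopfRep.Comod R A N.V, c' = N.co →
      Module.Finite R (@Hoch.H R _ A _ _ N.V _ _ c' j) →
        Module.Finite R (@Hoch.H R _ A _ _ N.V _ _ N.co j) := by
    rintro _ rfl h
    exact h
  exact h2 (N.tw F.hχ 0).co (tw_zero F N) h1

end Groth.Agent.ResProp.EF.Fin669
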