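import Groth.Agent.ResProp.EF.Fin669.TM

/-!
# Finiteness for a family with commuting operators, main statement
-/

set_option autoImplicit false
set_option linter.unusedSectionVars false
universe u

open DirectSum GrLC K759.Gr MvPolynomial GrSyz

namespace Groth.Agent.ResProp.EF.Fin669

section GenLemmas

variable {R : Type u} [CommRing R] {r : ℕ} {V : ℕ → Type u} [∀ n, AddCommGroup (V n)]
  [∀ n, Module R (V n)] {x : Fin r → ∀ n, V n →ₗ[R] V (n + 1)} {t : ℕ} {deg : Fin t → ℕ}
  {y : ∀ l, V (deg l)}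

theorem Gen.pw {n : ℕ} {v : V n} (i : Fin r) (h : Gen x deg y n v) (k : ℕ) :
    Gen x deg y (n + k) (Fin669.pw x i n k v) := by
  induction k with
  | zero => exact h
  | succ k ih => exact Gen.x i _ _ ih

end GenLemmas

variable {R : Type u} [CommRing R] {r : ℕ} (V : ℕ → Type u) [∀ n, AddCommGroup (V n)]
  [∀ n, Module R (V n)] (x : Fin r → ∀ n, V n →ₗ[R] V (n + 1)) (hx : Comm x)

section

variable {t : ℕ} (deg : Fin t → ℕ) (y : ∀ l, V (deg l))

/-- The submodule of elements all of whose components are generated. -/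
noncomputable def genSub : Submodule (MvPolynomial (Fin r) R) (TM V x hx) where
  carrier := {m | ∀ n, Gen x deg y n (TM.pr V x hx n m)}
  zero_mem' := fun n => by rw [map_zero]; exact Gen.zero n
  add_mem' := fun {a b} ha hb n => by rw [map_add]; exact Gen.add _ _ _ (ha n) (hb n)
  smul_mem' := by
    intro p m hm
    induction p using MvPolynomial.induction_on generalizing m with
    | C c =>
      intro n
      rw [C_smul, map_smul]
      exact Gen.smul _ _ _ (hm n)
    | add p q hp hq =>
      intro n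
      rw [add_smul, map_add]
      exact Gen.add _ _ _ (hp hm n) (hq hm n)
    | mul_X p i hp =>
      rw [mul_smul]
      apply hp
      intro n
      cases n with
      | zero => rw [pr_X_smul_zero]; exact Gen.zero 0
      | succ n => rw [pr_X_smul]; exact Gen.x i _ _ (hm n)

theorem mem_genSub {m : TM V x hx} :
    m ∈ genSub V x hx deg y ↔ ∀ n, Gen x deg y n (TM.pr V x hx n m) := Iff.rfl

theorem inc_mem_genSub {n : ℕ} {v : V n} :
    TM.inc V x hx n v ∈ genSub V x hx deg y ↔ Gen x deg y n v := by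
  constructor
  · intro h
    have := h n
    rwa [pr_inc] at this
  · intro h k
    by_cases hk : n = k
    · subst hk
      rwa [pr_inc]
    · rw [pr_inc_ne V x hx hk]
      exact Gen.zero k

theorem inc_mem_span {n : ℕ} {v : V n} (h : Gen x deg y n v) :
    TM.inc V x hx n v ∈ Submodule.span (MvPolynomial (Fin r) R)
      (Set.range fun l => TM.inc V x hx (deg l) (y l)) := by
  induction h with
  | gen l => exact Submodule.subset_span ⟨l, rfl⟩
  | x i n v _ ih => rw [← X_smul_inc]; exact Submodule.smul_mem _ _ ih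
  | zero n => rw [map_zero]; exact zero_mem _
  | add n v w _ _ hv hw => rw [map_add]; exact add_mem hv hw
  | smul n c v _ ih => rw [map_smul, ← C_smul]; exact Submodule.smul_mem _ _ ih

theorem genSub_fg : (genSub V x hx deg y).FG := by
  classical
  rw [Submodule.fg_def]
  refine ⟨Set.range fun l => TM.inc V x hx (deg l) (y l), Set.finite_range _, ?_⟩
  apply le_antisymm
  · rw [Submodule.span_le]
    rintro _ ⟨l, rfl⟩
    exact (inc_mem_genSub V x hx deg y).2 (Gen.gen l)
  · intro m hm
    have h1 : ∑ n ∈ DFinsupp.support (β := V) m, TM.inc V x hx n (TM.pr V x hx n m) = m :=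
      DirectSum.sum_support_of (β := V) m
    rw [← h1]
    exact sum_mem fun n _ => inc_mem_span V x hx deg y (hm n)

theorem genSub_homogeneous : (genSub V x hx deg y).IsHomogeneous (tgr V x hx) := by
  classical
  intro j m hm
  change cmp (tgr V x hx) j m ∈ _
  have h1 : ∑ n ∈ DFinsupp.support (β := V) m, TM.inc V x hx n (TM.pr V x hx n m) = m :=
    DirectSum.sum_support_of (β := V) m
  rw [← h1, map_sum]
  refine sum_mem fun n _ => ?_
  rw [cmp_of_mem (tgr V x hx) (inc_mem V x hx n _)]
  split_ifs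
  · exact (inc_mem_genSub V x hx deg y).2 (hm n)
  · exact zero_mem _

end

theorem X_pow_mem (i : Fin r) (k : ℕ) :
    (X i : MvPolynomial (Fin r) R) ^ k ∈ (aX R r).toIdeal ^ k :=
  Ideal.pow_mem_pow (by rw [aX_toIdeal]; exact Ideal.subset_span ⟨i, rfl⟩) k

theorem aX_pow_le (J : Ideal (MvPolynomial (Fin r) R)) (h : ∀ i, ∃ k : ℕ, (X i) ^ k ∈ J) :
    ∃ k : ℕ, (aX R r).toIdeal ^ k ≤ J := by
  apply Ideal.exists_pow_le_of_le_radical_of_fg
  · rw [aX_toIdeal, Ideal.span_le]
    rintro _ ⟨i, rfl⟩
    exact h i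
  · rw [aX_toIdeal]
    exact (Submodule.fg_span (Set.finite_range _))

/-- The ring homomorphism from the degree zero subring to `R`. -/
noncomputable def σ0 (R : Type u) [CommRing R] (r : ℕ) : deg0 (gr R r) →+* R :=
  (constantCoeff (σ := Fin r) (R := R)).comp (deg0 (gr R r)).subtype

theorem σ0_surj : Function.Surjective (σ0 R r) := fun c =>
  ⟨⟨C c, K860.Basic.C_mem c⟩, by simp [σ0]⟩

instance : RingHomSurjective (σ0 R r) := ⟨σ0_surj⟩

include hx in
theorem fam_finite [IsNoetherianRing R] (htors : NoTors x)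
    {t : ℕ} (deg : Fin t → ℕ) (y : ∀ l, V (deg l))
    (hgen : ∀ (n : ℕ) (v : V n) (i : Fin r), ∃ k : ℕ, Gen x deg y (n + k) (pw x i n k v)) :
    (∀ n, Module.Finite R (V n)) ∧ ∃ n₀ : ℕ, ∀ n, n₀ ≤ n → ∀ v : V n, Gen x deg y n v := by
  have hgam : ∀ m : TM V x hx, (∃ k : ℕ, ∀ p ∈ (aX R r).toIdeal ^ k, p • m = 0) → m = 0 := by
    rintro m ⟨k, hk⟩
    refine ext_pr V x hx fun n => ?_
    rw [map_zero]
    refine htors n _ fun i => ⟨k, ?_⟩
    rw [← pr_Xpow_smul, hk _ (X_pow_mem i k), map_zero]
  have htor : ∀ m : TM V x hx, ∃ k : ℕ, ∀ p ∈ (aX R r).toIdeal ^ k,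
      p • m ∈ genSub V x hx deg y := by
    intro m
    induction m using TM.induction with
    | h0 => exact ⟨0, fun p _ => by rw [smul_zero]; exact zero_mem _⟩
    | h1 n v =>
      obtain ⟨k, hk⟩ := aX_pow_le ((genSub V x hx deg y).colon {TM.inc V x hx n v}) (by
        intro i
        obtain ⟨k, hk⟩ := hgen n v i
        refine ⟨k, ?_⟩
        rw [Submodule.mem_colon_singleton, Xpow_smul_inc]
        exact (inc_mem_genSub V x hx deg y).2 hk)
      exact ⟨k, fun p hp => Submodule.mem_colon_singleton.1 (hk hp)⟩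
    | h2 a b ha hb =>
      obtain ⟨k, hk⟩ := ha
      obtain ⟨l, hl⟩ := hb
      refine ⟨max k l, fun p hp => ?_⟩
      rw [smul_add]
      exact add_mem (hk p (Ideal.pow_le_pow_right (le_max_left k l) hp))
        (hl p (Ideal.pow_le_pow_right (le_max_right k l) hp))
  obtain ⟨⟨n₀, hn₀⟩, hfin⟩ := saturation_finite (aX R r) (aX_eq R r) (tgr V x hx)
    (genSub V x hx deg y) (genSub_homogeneous V x hx deg y) (genSub_fg V x hx deg y) hgam htor
  refine ⟨fun n => ?_, n₀.toNat, fun n hn v => ?_⟩
  · have h1 := hfin (n : ℤ)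
    let f : GrLC.comp (gr R r) (tgr V x hx) (n : ℤ) →ₛₗ[σ0 R r] V n :=
      { toFun := fun m => TM.pr V x hx n (m : TM V x hx)
        map_add' := fun a b => map_add _ _ _
        map_smul' := fun c m => by
          have hc : (c : MvPolynomial (Fin r) R) = C (constantCoeff (c : MvPolynomial (Fin r) R)) :=
            K860.Basic.mem_stdGr_zero c.2
          change TM.pr V x hx n ((c : MvPolynomial (Fin r) R) • (m : TM V x hx)) = _
          rw [hc, C_smul, map_smul]
          simp [σ0] }
    exact Module.Finite.of_surjective f fun v => ⟨⟨TM.inc V x hx n v, inc_mem V x hx n v⟩, pr_inc V x hx n v⟩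
  · exact (inc_mem_genSub V x hx deg y).1 (hn₀ (n : ℤ) (by omega) _ (inc_mem V x hx n v))

end Groth.Agent.ResProp.EF.Fin669
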