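import Groth.Agent.ResProp.EF.Fin669.Assembly
import Groth.Agent.ResProp.EF.K416.Deg0
import Groth.Agent.ResProp.EF.K860.T4c
import Groth.Agent.ResProp.EF.K936.Ac

/-!
# G6a, T6: finiteness of `H^j(N)` for a finite Hopf module `N`
-/

set_option autoImplicit false
universe u

open TensorProduct

noncomputable section

namespace Groth.Agent.ResProp.EF.Fin669

open K83

variable {R : Type u} [CommRing R] {A : Type u} [CommRing A] [HopfAlgebra R A]
  {D : Type u} [CommRing D] [Algebra R D] {c : CoAlg R A D} (F : FinDatum R A D c)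

theorem fgHyp : FGHyp F := by
  intro N hfin
  obtain ⟨t, n, y, h1, h2⟩ := K860.T4c F N.V N.co N.hm
  exact K416.finGen F.hχ F.hs N (finGen_of_homog F.s (K416.W0 F.χ N) (K416.smul_mem_W0 F.hs N)
    ⟨t, n, y, h1, fun i m y' hy' => h2 i m y' hy'⟩)

theorem ntHyp : NTHyp F := fun N => K416.noTors F.hχ F.hs N F.span

variable [Module.Flat R A]

theorem acHyp : AcHyp F := fun N i j n hj v => K936.Ac F N i j hj n v

include F in
/-- **Finiteness.** -/
theorem finite_H [IsNoetherianRing R] (N : K416.HM c) (hfin : Module.Finite D N.V) (j : ℕ) :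
    Module.Finite R (Hoch.H R A N.V j) := finite_of_hyp F (acHyp F) (ntHyp F) (fgHyp F) N hfin j

/-- Vanishing for large twists. -/
theorem exists_vanish [IsNoetherianRing R] (N : K416.HM c) (hfin : Module.Finite D N.V) :
    ∃ n₀ : ℕ, ∀ j n, n₀ ≤ n → 1 ≤ j → ∀ v : K416.Vf F.hχ N j n, v = 0 :=
  (fin_induction F (acHyp F) (ntHyp F) (fgHyp F) _ Finset.univ rfl N hfin
    (fun i hi => absurd (Finset.mem_univ i) hi)).large

end Groth.Agent.ResProp.EF.Fin669
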