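import Groth.Agent.GrLC.K759.Serre

/-!
# Finiteness of the saturation of a finitely generated graded module

`M` graded over a Noetherian positively `ℤ`-graded ring `P`, `N ≤ M` finitely generated and homogeneous,
`M` without `P_+`-torsion, `M / N` a `P_+`-torsion module: then every piece of `M` is finitely generated over
`P_0` and `M_n ≤ N` for `n` large.
-/

set_option autoImplicit false
set_option linter.unusedSectionVars false
universe u

open DirectSum GrLC K759.Gr K759.GrObj K963.Iface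

namespace Groth.Agent.ResProp.EF.Fin669

variable {R : Type u} [CommRing R] [IsNoetherianRing R] {𝒜 : ℤ → AddSubgroup R} [GradedRing 𝒜]

theorem finite_of_ker {S : Type*} [CommRing S] [IsNoetherianRing S] {A B C : Type*}
    [AddCommGroup A] [Module S A] [AddCommGroup B] [Module S B] [AddCommGroup C] [Module S C]
    (ψ : A →ₗ[S] B) (hB : Module.Finite S B) (hC : Module.Finite S C)
    (θ : A →ₗ[S] C) (hθ : ∀ x, ψ x = 0 → θ x = 0 → x = 0) : Module.Finite S A := by
  have i1 : IsNoetherian S B := isNoetherian_of_isNoetherianRing_of_finite S B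
  have i2 : IsNoetherian S C := isNoetherian_of_isNoetherianRing_of_finite S C
  have i3 : IsNoetherian S A := isNoetherian_of_injective (ψ.prod θ) (by
    rw [injective_iff_map_eq_zero]
    intro x hx
    exact hθ x (congrArg Prod.fst hx) (congrArg Prod.snd hx))
  exact Module.IsNoetherian.finite S A

theorem finite_of_ker' {S : Type*} [CommRing S] [IsNoetherianRing S] {A B C : Type*}
    [AddCommGroup A] [Module S A] [AddCommGroup B] [Module S B] [AddCommGroup C] [Module S C]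
    (ψ : A →ₗ[S] B) (hB : Module.Finite S B) (hC : Module.Finite S C)
    (θ : LinearMap.ker ψ →ₗ[S] C) (hθ : Function.Injective θ) : Module.Finite S A := by
  have i1 : IsNoetherian S B := isNoetherian_of_isNoetherianRing_of_finite S B
  have i2 : IsNoetherian S C := isNoetherian_of_isNoetherianRing_of_finite S C
  have i3 : IsNoetherian S (LinearMap.ker ψ) := isNoetherian_of_injective θ hθ
  have i4 : IsNoetherian S A :=
    isNoetherian_of_range_eq_ker (LinearMap.ker ψ).subtype ψ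
      (Submodule.range_subtype (LinearMap.ker ψ))
  exact Module.IsNoetherian.finite S A

theorem saturation_finite (a : HomogeneousIdeal 𝒜)
    (ha : a.toIdeal = Ideal.span (⋃ n ∈ Set.Ioi (0 : ℤ), (𝒜 n : Set R)))
    {M : Type u} [AddCommGroup M] [Module R M] (ℳ : ℤ → AddSubgroup M)
    [DirectSum.Decomposition ℳ] [SetLike.GradedSMul 𝒜 ℳ]
    (N : Submodule R M) (hN : N.IsHomogeneous ℳ) (hfg : N.FG)
    (hgam : ∀ m : M, (∃ k : ℕ, ∀ r ∈ a.toIdeal ^ k, r • m = 0) → m = 0)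
    (htor : ∀ m : M, ∃ k : ℕ, ∀ r ∈ a.toIdeal ^ k, r • m ∈ N) :
    (∃ n₀ : ℤ, ∀ n, n₀ ≤ n → ∀ m ∈ ℳ n, m ∈ N) ∧
      ∀ n : ℤ, Module.Finite (deg0 𝒜) (GrLC.comp 𝒜 ℳ n) := by
  let A : GMod.{u} 𝒜 := sub 𝒜 ℳ N hN
  let B : GMod.{u} 𝒜 := GMod.of 𝒜 M ℳ
  have hA : Module.Finite R A.carrier := Module.Finite.iff_fg.mpr hfg
  obtain ⟨E⟩ := nonempty_res 𝒜 A.gr
  obtain ⟨ε, hε, hεi, hεk⟩ : ∃ ε : N →ₗ[R] (E.X 0).carrier, ε = E.ε ∧ Function.Injective ε ∧
      LinearMap.ker (E.d 0) = LinearMap.range ε := ⟨E.ε, rfl, E.ε_injective, E.exact_zero⟩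
  obtain ⟨h, hh, hh'⟩ : ∃ h : M →ₗ[R] (E.X 0).carrier, IsGrHom ℳ (E.X 0).gr h ∧
      ∀ x : N, h (x : M) = ε x := by
    obtain ⟨h, hh, hhε⟩ := E.starInj 0 A B N.subtype (isGrHom_subtype ℳ N) N.injective_subtype
      E.ε E.ε_grHom
    exact ⟨h, hh, fun x => by rw [hε]; exact LinearMap.congr_fun hhε x⟩
  -- injectivity of the extension
  have hinj : ∀ w : M, h w = 0 → w = 0 := by
    intro w hw
    obtain ⟨k, hk⟩ := htor w
    refine hgam w ⟨k, fun r hr => ?_⟩
    have h1 : ε ⟨r • w, hk r hr⟩ = 0 := by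
      rw [← hh' ⟨r • w, hk r hr⟩]
      change h (r • w) = 0
      rw [map_smul, hw, smul_zero]
    have h2 := hεi (h1.trans (map_zero _).symm)
    exact congrArg Subtype.val h2
  -- the class of `d (h x)`
  have hcoc : ∀ x : M, E.d 0 (h x) ∈ E.cocyc a 1 := by
    intro x
    refine ⟨?_, ?_⟩
    · obtain ⟨k, hk⟩ := htor x
      refine ⟨k, fun r hr => ?_⟩
      have h1 : ε ⟨r • x, hk r hr⟩ ∈ LinearMap.ker (E.d 0) := by
        rw [hεk]
        exact ⟨_, rfl⟩
      rw [← hh' ⟨r • x, hk r hr⟩] at h1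
      have h2 : E.d 0 (h (r • x)) = 0 := h1
      rw [map_smul, map_smul] at h2
      exact h2
    · have : E.d 0 (h x) ∈ LinearMap.ker (E.d 1) := by
        rw [E.exact_succ 0]
        exact ⟨_, rfl⟩
      exact this
  let Φ : M →ₗ[R] E.H a 1 := (E.toH a 1) ∘ₗ (LinearMap.codRestrict (E.cocyc a 1) (E.d 0 ∘ₗ h) hcoc)
  have hΦ : ∀ x : M, Φ x = 0 → x ∈ N := by
    intro x hx
    have h1 : (⟨E.d 0 (h x), hcoc x⟩ : E.cocyc a 1) ∈
        (E.cobdy a 1).comap (E.cocyc a 1).subtype :=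
      (Submodule.Quotient.mk_eq_zero _).mp hx
    obtain ⟨y, hy, hyx⟩ := h1
    have h2 : h x - y ∈ LinearMap.ker (E.d 0) := by
      rw [LinearMap.mem_ker, map_sub, sub_eq_zero]
      exact hyx.symm
    rw [hεk] at h2
    obtain ⟨z, hz⟩ := h2
    have h3 : h (x - (z : M)) = y := by
      rw [map_sub, hh' z, hz, sub_sub_cancel]
    obtain ⟨k, hk⟩ := hy
    have h4 : x - (z : M) = 0 := by
      refine hgam _ ⟨k, fun r hr => hinj _ ?_⟩
      rw [map_smul, h3]
      exact hk r hr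
    rw [sub_eq_zero] at h4
    rw [h4]
    exact z.2
  have hΦ' : ∀ n, ∀ x ∈ ℳ n, Φ x ∈ E.Hcomp a 1 n := by
    intro n x hx
    exact ⟨⟨E.d 0 (h x), hcoc x⟩, E.d_grHom 0 n _ (hh n x hx), rfl⟩
  obtain ⟨⟨r, hr⟩, hfin⟩ := K759.Serre.stmt a ha 1 A hA E
  refine ⟨⟨r, fun n hn m hm => ?_⟩, fun n => ?_⟩
  · have h1 := hΦ' n m hm
    rw [hr n hn, Submodule.mem_bot] at h1
    exact hΦ m h1
  · have hNR := K759.Piece.isNoetherianRing_deg0 𝒜
    have hf1 := hfin n
    let ψ : GrLC.comp 𝒜 ℳ n →ₗ[deg0 𝒜] E.Hcomp a 1 n :=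
      (Φ.restrictScalars (deg0 𝒜)).restrict (hΦ' n)
    letI := subDec ℳ N hN
    have hN' : Module.Finite R N := Module.Finite.iff_fg.mpr hfg
    have hf2 : Module.Finite (deg0 𝒜) (GrLC.comp 𝒜 (subGr ℳ N) n) :=
      K759.Piece.finite_comp 𝒜 (subGr ℳ N) n
    let θ : LinearMap.ker ψ →ₗ[deg0 𝒜] GrLC.comp 𝒜 (subGr ℳ N) n :=
      { toFun := fun x => ⟨⟨((x : GrLC.comp 𝒜 ℳ n) : M), hΦ _ (congrArg Subtype.val
            (LinearMap.mem_ker.1 x.2))⟩, (x : GrLC.comp 𝒜 ℳ n).2⟩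
        map_add' := fun x y => rfl
        map_smul' := fun c x => rfl }
    have hθ : Function.Injective θ := by
      intro x y hxy
      apply Subtype.ext
      apply Subtype.ext
      have h1 : ((θ x : GrLC.comp 𝒜 (subGr ℳ N) n) : N) = (θ y : GrLC.comp 𝒜 (subGr ℳ N) n) :=
        congrArg Subtype.val hxy
      exact congrArg (Subtype.val : N → M) h1
    exact finite_of_ker' ψ hf1 hf2 θ hθ

end Groth.Agent.ResProp.EF.Fin669
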