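import Groth.Agent.ResProp.EF.Fin669.FamFin

/-!
# The inductive step of the finiteness theorem

`V j n` plays the role of `H^j(H, N(n))`, `n ≥ 0`.  `Good d V`: all `V j n` are finitely generated, they vanish for
`j > d`, and for `j ≥ 1` and `n` large.  `good_step` is the step `0 → N → N(1) → Q → 0`, `good_ext` the extension.
-/

set_option autoImplicit false
set_option linter.unusedSectionVars false
universe u

open DirectSum GrLC K759.Gr MvPolynomial GrSyz

namespace Groth.Agent.ResProp.EF.Fin669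

/-! ## Generated elements vanish in large degrees if the generators are torsion -/

theorem monomial_mem_pow {R : Type u} [CommRing R] {r : ℕ} (d : Fin r →₀ ℕ) : ∀ c : R,
    (monomial d c : MvPolynomial (Fin r) R) ∈ (aX R r).toIdeal ^ d.degree := by
  induction d using Finsupp.induction_linear with
  | zero => intro c; simp
  | add d e hd he =>
    intro c
    have h1 : (monomial (d + e) c : MvPolynomial (Fin r) R) = monomial d c * monomial e 1 := by
      rw [monomial_mul, mul_one]
    rw [h1, map_add, pow_add]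
    exact Ideal.mul_mem_mul (hd c) (he 1)
  | single i n =>
    intro c
    rw [← C_mul_X_pow_eq_monomial, Finsupp.degree_single]
    exact Ideal.mul_mem_left _ _ (X_pow_mem i n)

theorem mem_pow_of_mem_gr {R : Type u} [CommRing R] {r : ℕ} {p : MvPolynomial (Fin r) R} {n : ℤ}
    (hp : p ∈ gr R r n) {k : ℕ} (hk : (k : ℤ) ≤ n) : p ∈ (aX R r).toIdeal ^ k := by
  rw [p.as_sum]
  refine sum_mem fun d hd => ?_
  have h2 : (d.degree : ℤ) = n := (K860.Basic.mem_stdGr n p).1 hp d (mem_support_iff.1 hd)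
  exact Ideal.pow_le_pow_right (by omega) (monomial_mem_pow d _)

section

variable {R : Type u} [CommRing R] {r : ℕ} (V : ℕ → Type u) [∀ n, AddCommGroup (V n)]
  [∀ n, Module R (V n)] (x : Fin r → ∀ n, V n →ₗ[R] V (n + 1)) (hx : Comm x)
  {t : ℕ} (deg : Fin t → ℕ) (y : ∀ l, V (deg l))

theorem exists_coeff {n : ℕ} {v : V n} (h : Gen x deg y n v) :
    ∃ p : Fin t → MvPolynomial (Fin r) R, (∀ l, p l ∈ gr R r ((n : ℤ) - deg l)) ∧
      TM.inc V x hx n v = ∑ l, p l • TM.inc V x hx (deg l) (y l) := by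
  classical
  induction h with
  | gen l =>
    refine ⟨Pi.single l 1, fun l' => ?_, ?_⟩
    · by_cases h : l' = l
      · subst h
        rw [Pi.single_eq_same, sub_self]
        exact K860.Basic.one_mem'
      · rw [Pi.single_eq_of_ne h]
        exact zero_mem _
    · rw [Finset.sum_eq_single l]
      · rw [Pi.single_eq_same, one_smul]
      · intro l' _ h
        rw [Pi.single_eq_of_ne h, zero_smul]
      · intro h
        exact absurd (Finset.mem_univ l) h
  | x i n v _ ih =>
    obtain ⟨p, hp, hv⟩ := ih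
    refine ⟨fun l => X i * p l, fun l => ?_, ?_⟩
    · have h1 := K860.Basic.mul_mem' (K860.Basic.X_mem (k := R) i) (hp l)
      have e : (1 : ℤ) + ((n : ℤ) - deg l) = ((n + 1 : ℕ) : ℤ) - deg l := by push_cast; ring
      rwa [e] at h1
    · rw [← X_smul_inc, hv, Finset.smul_sum]
      simp only [mul_smul]
  | zero n =>
    exact ⟨fun _ => 0, fun _ => zero_mem _, by simp⟩
  | add n v w _ _ hv hw =>
    obtain ⟨p, hp, hv⟩ := hv
    obtain ⟨q, hq, hw⟩ := hw
    refine ⟨fun l => p l + q l, fun l => add_mem (hp l) (hq l), ?_⟩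
    rw [map_add, hv, hw, ← Finset.sum_add_distrib]
    simp only [add_smul]
  | smul n c v _ ih =>
    obtain ⟨p, hp, hv⟩ := ih
    refine ⟨fun l => C c * p l, fun l => ?_, ?_⟩
    · have h1 := K860.Basic.mul_mem' (K860.Basic.C_mem (σ := Fin r) c) (hp l)
      rwa [zero_add] at h1
    · rw [map_smul, ← C_smul, hv, Finset.smul_sum]
      simp only [mul_smul]

include hx in
/-- If the generators are killed by powers of all operators, generated elements vanish in large degrees. -/
theorem gen_eq_zero (hy : ∀ l i, ∃ k : ℕ, pw x i (deg l) k (y l) = 0) :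
    ∃ n₁ : ℕ, ∀ n, n₁ ≤ n → ∀ v : V n, Gen x deg y n v → v = 0 := by
  have h1 : ∀ l, ∃ k : ℕ, ∀ p ∈ (aX R r).toIdeal ^ k, p • TM.inc V x hx (deg l) (y l) = 0 := by
    intro l
    obtain ⟨k, hk⟩ := aX_pow_le
      ((⊥ : Submodule (MvPolynomial (Fin r) R) (TM V x hx)).colon {TM.inc V x hx (deg l) (y l)}) (by
      intro i
      obtain ⟨k, hk⟩ := hy l i
      refine ⟨k, ?_⟩
      rw [Submodule.mem_colon_singleton, Xpow_smul_inc, hk, map_zero]
      exact zero_mem _)
    exact ⟨k, fun p hp => (Submodule.mem_bot _).1 (Submodule.mem_colon_singleton.1 (hk hp))⟩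
  choose K hK using h1
  refine ⟨∑ l, (K l + deg l), fun n hn v hv => ?_⟩
  obtain ⟨p, hp, h2⟩ := exists_coeff V x hx deg y hv
  have h3 : TM.inc V x hx n v = 0 := by
    rw [h2]
    refine Finset.sum_eq_zero fun l _ => hK l _ (mem_pow_of_mem_gr (hp l) ?_)
    have h4 : K l + deg l ≤ ∑ l, (K l + deg l) :=
      Finset.single_le_sum (f := fun l => K l + deg l) (fun _ _ => Nat.zero_le _) (Finset.mem_univ l)
    omega
  rw [← pr_inc V x hx n v, h3, map_zero]

theorem eq_zero_of_pw (i : Fin r) (n : ℕ) (h : ∀ m, n ≤ m → ∀ v : V m, x i m v = 0 → v = 0)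
    (k : ℕ) (v : V n) (hv : pw x i n k v = 0) : v = 0 := by
  induction k with
  | zero => exact hv
  | succ k ih => exact ih (h (n + k) (Nat.le_add_right n k) _ hv)

end

/-! ## The conclusion -/

section Good

variable (R : Type u) [CommRing R]

/-- Finite generation, vanishing above `d`, and vanishing of the positive degrees for large twists. -/
structure Good (d : ℕ) (V : ℕ → ℕ → Type u) [∀ j n, AddCommGroup (V j n)]
    [∀ j n, Module R (V j n)] : Prop where
  fin : ∀ j n, Module.Finite R (V j n)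
  large : ∃ n₀ : ℕ, ∀ j n, n₀ ≤ n → 1 ≤ j → ∀ v : V j n, v = 0
  van : ∀ j n, d < j → ∀ v : V j n, v = 0

variable {R} {V : ℕ → ℕ → Type u} [∀ j n, AddCommGroup (V j n)] [∀ j n, Module R (V j n)]

theorem Good.mono {d d' : ℕ} (h : Good R d V) (hd : d ≤ d') : Good R d' V :=
  ⟨h.fin, h.large, fun j n hj => h.van j n (lt_of_le_of_lt hd hj)⟩

theorem good_zero (h : ∀ j n, ∀ v : V j n, v = 0) (d : ℕ) : Good R d V where
  fin j n := by
    have : Subsingleton (V j n) := ⟨fun a b => by rw [h j n a, h j n b]⟩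
    infer_instance
  large := ⟨0, fun j n _ _ => h j n⟩
  van j n _ := h j n

theorem good_ext [IsNoetherianRing R] {V' V'' : ℕ → ℕ → Type u} [∀ j n, AddCommGroup (V' j n)]
    [∀ j n, Module R (V' j n)] [∀ j n, AddCommGroup (V'' j n)] [∀ j n, Module R (V'' j n)]
    (f : ∀ j n, V' j n →ₗ[R] V j n) (g : ∀ j n, V j n →ₗ[R] V'' j n)
    (ex : ∀ j n, Function.Exact (f j n) (g j n)) {d : ℕ} (h' : Good R d V') (h'' : Good R d V'') :
    Good R d V := by
  have key : ∀ j n, (∀ v : V' j n, v = 0) → (∀ v : V'' j n, v = 0) → ∀ v : V j n, v = 0 := by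
    intro j n h1 h2 v
    obtain ⟨w, rfl⟩ := (ex j n v).1 (h2 _)
    rw [h1 w, map_zero]
  refine ⟨fun j n => ?_, ?_, fun j n hj => key j n (h'.van j n hj) (h''.van j n hj)⟩
  · have i1 := h'.fin j n
    have i2 := h''.fin j n
    have i3 : IsNoetherian R (V' j n) := isNoetherian_of_isNoetherianRing_of_finite R _
    have i4 : IsNoetherian R (V'' j n) := isNoetherian_of_isNoetherianRing_of_finite R _
    have i5 : IsNoetherian R (V j n) := isNoetherian_of_range_eq_ker (f j n) (g j n)
      ((LinearMap.exact_iff.1 (ex j n)).symm)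
    exact Module.IsNoetherian.finite R _
  · obtain ⟨n₁, h1⟩ := h'.large
    obtain ⟨n₂, h2⟩ := h''.large
    exact ⟨max n₁ n₂, fun j n hn hj => key j n (h1 j n (le_trans (le_max_left _ _) hn) hj)
      (h2 j n (le_trans (le_max_right _ _) hn) hj)⟩

/-- The step `0 → N → N(1) → Q → 0`. -/
theorem good_step [IsNoetherianRing R] {r : ℕ} {Q : ℕ → ℕ → Type u} [∀ j n, AddCommGroup (Q j n)]
    [∀ j n, Module R (Q j n)]
    (x : Fin r → ∀ j n, V j n →ₗ[R] V j (n + 1)) (xQ : Fin r → ∀ j n, Q j n →ₗ[R] Q j (n + 1))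
    (hx : ∀ j, Comm (fun i => x i j)) (hxQ : ∀ j, Comm (fun i => xQ i j))
    (i₀ : Fin r) (a : ∀ j n, V j (n + 1) →ₗ[R] Q j n) (del : ∀ j n, Q j n →ₗ[R] V (j + 1) n)
    (hdel : ∀ i j n q, del j (n + 1) (xQ i j n q) = x i (j + 1) n (del j n q))
    (ex2 : ∀ j n, Function.Exact (a j n) (del j n))
    (ex3 : ∀ j n, Function.Exact (del j n) (x i₀ (j + 1) n))
    (hac : ∀ j, 1 ≤ j → ∀ (n : ℕ) (v : V j n), ∃ k : ℕ, pw (fun i => x i j) i₀ n k v = 0)
    (hac1 : ∀ (n : ℕ) (v : V 1 n) (i : Fin r), ∃ k : ℕ, pw (fun i => x i 1) i n k v = 0)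
    (hV : NoTors (fun i => x i 0)) (hV' : FinGen (fun i => x i 0))
    (hQ : NoTors (fun i => xQ i 0)) (hQ' : FinGen (fun i => xQ i 0))
    {d : ℕ} (hgood : Good R d Q) : Good R (d + 1) V := by
  -- degree zero
  have fin0 : ∀ n, Module.Finite R (V 0 n) := by
    obtain ⟨t, deg, y, hy⟩ := hV'
    exact (fam_finite (V 0) (fun i => x i 0) (hx 0) hV deg y hy).1
  -- injectivity of `x i₀` on `V 1 n` for large `n`
  have inj1 : ∃ n₁ : ℕ, ∀ n, n₁ ≤ n → ∀ v : V 1 n, x i₀ 1 n v = 0 → v = 0 := by
    obtain ⟨t, deg, y, hy⟩ := hQ'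
    obtain ⟨n₀, h0⟩ := (fam_finite (Q 0) (fun i => xQ i 0) (hxQ 0) hQ deg y hy).2
    have hgen : ∀ (n : ℕ) (q : Q 0 n), Gen (fun i => xQ i 0) deg y n q →
        Gen (V := V 1) (fun i => x i 1) deg (fun l => del 0 (deg l) (y l)) n (del 0 n q) := by
      intro n q h
      induction h with
      | gen l => exact Gen.gen l
      | x i n v _ ih =>
        have := Gen.x (x := fun i => x i 1) i n _ ih
        rw [show del 0 (n + 1) (xQ i 0 n v) = x i 1 n (del 0 n v) from hdel i 0 n v]
        exact this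
      | zero n => rw [map_zero]; exact Gen.zero n
      | add n v w _ _ hv hw => rw [map_add]; exact Gen.add _ _ _ hv hw
      | smul n c v _ ih => rw [map_smul]; exact Gen.smul _ _ _ ih
    obtain ⟨n₁, h1⟩ := gen_eq_zero (V 1) (fun i => x i 1) (hx 1) deg
      (fun l => del 0 (deg l) (y l)) (fun l i => hac1 _ _ i)
    refine ⟨max n₀ n₁, fun n hn v hv => ?_⟩
    obtain ⟨q, rfl⟩ := (ex3 0 n v).1 hv
    exact h1 n (le_trans (le_max_right _ _) hn) _
      (hgen n q (h0 n (le_trans (le_max_left _ _) hn) q))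
  -- injectivity of `x i₀` on `V (j + 1) n` when `Q j n` vanishes
  have inj2 : ∀ j n, (∀ q : Q j n, q = 0) → ∀ v : V (j + 1) n, x i₀ (j + 1) n v = 0 → v = 0 := by
    intro j n h v hv
    obtain ⟨q, rfl⟩ := (ex3 j n v).1 hv
    rw [h q, map_zero]
  have large : ∃ n₀ : ℕ, ∀ j n, n₀ ≤ n → 1 ≤ j → ∀ v : V j n, v = 0 := by
    obtain ⟨n₁, h1⟩ := inj1
    obtain ⟨n₂, h2⟩ := hgood.large
    refine ⟨max n₁ n₂, fun j n hn hj v => ?_⟩
    obtain ⟨k, hk⟩ := hac j hj n v
    refine eq_zero_of_pw (V j) (fun i => x i j) i₀ n ?_ k v hk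
    intro m hm w hw
    obtain ⟨j, rfl⟩ : ∃ j', j = j' + 1 := ⟨j - 1, by omega⟩
    cases j with
    | zero => exact h1 m (le_trans (le_max_left _ _) (le_trans hn hm)) w hw
    | succ j =>
      exact inj2 (j + 1) m (h2 (j + 1) m (le_trans (le_max_right _ _) (le_trans hn hm))
        (by omega)) w hw
  refine ⟨?_, large, ?_⟩
  · intro j
    cases j with
    | zero => exact fin0
    | succ j =>
      obtain ⟨n₀, h0⟩ := large
      have key : ∀ (k n : ℕ), n₀ ≤ n + k → Module.Finite R (V (j + 1) n) := by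
        intro k
        induction k with
        | zero =>
          intro n hn
          have : Subsingleton (V (j + 1) n) :=
            ⟨fun a b => by rw [h0 (j + 1) n hn (by omega) a, h0 (j + 1) n hn (by omega) b]⟩
          infer_instance
        | succ k ih =>
          intro n hn
          have i1 := ih (n + 1) (by omega)
          have i2 := hgood.fin j n
          have i3 : IsNoetherian R (V (j + 1) (n + 1)) :=
            isNoetherian_of_isNoetherianRing_of_finite R _
          have i4 : IsNoetherian R (Q j n) := isNoetherian_of_isNoetherianRing_of_finite R _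
          have i5 : IsNoetherian R (V (j + 1) n) := isNoetherian_of_range_eq_ker (del j n)
            (x i₀ (j + 1) n) ((LinearMap.exact_iff.1 (ex3 j n)).symm)
          exact Module.IsNoetherian.finite R _
      exact fun n => key n₀ n (by omega)
  · intro j n hj v
    obtain ⟨j, rfl⟩ : ∃ j', j = j' + 1 := ⟨j - 1, by omega⟩
    obtain ⟨k, hk⟩ := hac (j + 1) (by omega) n v
    exact eq_zero_of_pw (V (j + 1)) (fun i => x i (j + 1)) i₀ n
      (fun m _ w hw => inj2 j m (hgood.van j m (by omega)) w hw) k v hk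

end Good

end Groth.Agent.ResProp.EF.Fin669
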