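import Groth.Agent.ResProp.EF.Fin669.Finite
import Groth.Agent.ResProp.EF.K83.Van

/-!
# G6a: the theorem FIN(H)
-/

set_option autoImplicit false
universe u

open TensorProduct

namespace Groth.Agent.ResProp.EF.Fin669

open K83

/-- **FIN(H)**: for a FIN datum the cohomology of every Hopf module vanishes above `r`, and it is finite over `R` for
finite Hopf modules. -/
theorem stmtFIN : StmtFIN.{u} := by
  intro R _ _ A _ _ _ D _ _ c F N _ _ _ _ co hN
  exact ⟨fun j hj => K83.van F co hN j hj,
    fun hfin j => finite_H F ({ V := N, co := co, hm := hN } : K416.HM c) hfin j⟩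

end Groth.Agent.ResProp.EF.Fin669
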