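import Groth.Agent.ResProp.EF.Fin669.Tot

/-!
# Finiteness for a family with commuting operators

`fam_finite`: if `V` has no elements killed by powers of all operators and is generated up to such elements by
finitely many elements, then every `V n` is finitely generated over the Noetherian ring `R`, and `V` is generated
by finitely many elements in large degrees.
-/

set_option autoImplicit false
set_option linter.unusedSectionVars false
universe u

open DirectSum GrLC K759.Gr MvPolynomial GrSyz

namespace Groth.Agent.ResProp.EF.Fin669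

variable {R : Type u} [CommRing R] {r : ℕ} (V : ℕ → Type u) [∀ n, AddCommGroup (V n)]
  [∀ n, Module R (V n)] (x : Fin r → ∀ n, V n →ₗ[R] V (n + 1)) (hx : Comm x)

/-- The direct sum with its structure of a module over the polynomial ring. -/
def TM (V : ℕ → Type u) [∀ n, AddCommGroup (V n)] [∀ n, Module R (V n)]
    (x : Fin r → ∀ n, V n →ₗ[R] V (n + 1)) (_hx : Comm x) : Type u := DirectSum ℕ V

noncomputable instance TM.acg : AddCommGroup (TM V x hx) :=
  inferInstanceAs (AddCommGroup (DirectSum ℕ V))

noncomputable instance TM.modR : Module R (TM V x hx) :=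
  inferInstanceAs (Module R (DirectSum ℕ V))

noncomputable instance TM.mod : Module (MvPolynomial (Fin r) R) (TM V x hx) :=
  Module.compHom (DirectSum ℕ V) (act V x hx)

/-- The inclusion of the piece of degree `n`. -/
noncomputable def TM.inc (n : ℕ) : V n →ₗ[R] TM V x hx := DirectSum.lof R ℕ V n

/-- The component of degree `n`. -/
noncomputable def TM.pr (n : ℕ) : TM V x hx →ₗ[R] V n := DirectSum.component R ℕ V n

theorem pr_inc (n : ℕ) (v : V n) : TM.pr V x hx n (TM.inc V x hx n v) = v :=
  DirectSum.component.lof_self R n v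

theorem pr_inc_ne {n k : ℕ} (h : n ≠ k) (v : V n) : TM.pr V x hx k (TM.inc V x hx n v) = 0 := by
  change (DirectSum.of V n v) k = 0
  exact DirectSum.of_eq_of_ne _ _ _ (Ne.symm h)

theorem ext_pr {m m' : TM V x hx} (h : ∀ n, TM.pr V x hx n m = TM.pr V x hx n m') : m = m' :=
  DFinsupp.ext h

theorem C_smul (c : R) (m : TM V x hx) : (C c : MvPolynomial (Fin r) R) • m = c • m :=
  act_C V x hx c m

theorem pr_X_smul (i : Fin r) (m : TM V x hx) (n : ℕ) :
    TM.pr V x hx (n + 1) ((X i : MvPolynomial (Fin r) R) • m) = x i n (TM.pr V x hx n m) := by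
  change (act V x hx (X i) m) (n + 1) = x i n ((show DirectSum ℕ V from m) n)
  rw [act_X]
  exact op_apply_succ V x i m n

theorem pr_X_smul_zero (i : Fin r) (m : TM V x hx) :
    TM.pr V x hx 0 ((X i : MvPolynomial (Fin r) R) • m) = 0 := by
  change (act V x hx (X i) m) 0 = 0
  rw [act_X]
  exact op_apply_zero V x i m

theorem X_smul_inc (i : Fin r) (n : ℕ) (v : V n) :
    (X i : MvPolynomial (Fin r) R) • TM.inc V x hx n v = TM.inc V x hx (n + 1) (x i n v) := by
  change act V x hx (X i) (DirectSum.lof R ℕ V n v) = DirectSum.lof R ℕ V (n + 1) (x i n v)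
  rw [act_X, op_lof]

theorem Xpow_smul_inc (i : Fin r) (n k : ℕ) (v : V n) :
    (X i : MvPolynomial (Fin r) R) ^ k • TM.inc V x hx n v =
      TM.inc V x hx (n + k) (pw x i n k v) := by
  induction k with
  | zero => rw [pow_zero, one_smul]; rfl
  | succ k ih => rw [pow_succ', mul_smul, ih, X_smul_inc]; rfl

theorem pr_Xpow_smul (i : Fin r) (m : TM V x hx) (n k : ℕ) :
    TM.pr V x hx (n + k) ((X i : MvPolynomial (Fin r) R) ^ k • m) =
      pw x i n k (TM.pr V x hx n m) := by
  induction k with
  | zero => rw [pow_zero, one_smul]; rfl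
  | succ k ih =>
    rw [pow_succ', mul_smul]
    change TM.pr V x hx (n + k + 1) _ = _
    rw [pr_X_smul, ih]
    rfl

theorem TM.induction {p : TM V x hx → Prop} (h0 : p 0) (h1 : ∀ n v, p (TM.inc V x hx n v))
    (h2 : ∀ a b, p a → p b → p (a + b)) (m : TM V x hx) : p m :=
  DirectSum.induction_on (motive := p) m h0 h1 h2

/-! ## The grading -/

/-- The pieces. -/
def tgr : ℤ → AddSubgroup (TM V x hx) := fun j =>
  { carrier := {m | ∀ k : ℕ, (k : ℤ) ≠ j → TM.pr V x hx k m = 0}
    zero_mem' := fun k _ => map_zero _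
    add_mem' := fun {a b} ha hb k hk => by rw [map_add, ha k hk, hb k hk, add_zero]
    neg_mem' := fun {a} ha k hk => by rw [map_neg, ha k hk, neg_zero] }

theorem mem_tgr {j : ℤ} {m : TM V x hx} :
    m ∈ tgr V x hx j ↔ ∀ k : ℕ, (k : ℤ) ≠ j → TM.pr V x hx k m = 0 := Iff.rfl

theorem inc_mem (n : ℕ) (v : V n) : TM.inc V x hx n v ∈ tgr V x hx (n : ℤ) := by
  intro k hk
  exact pr_inc_ne V x hx (fun h => hk (by rw [h])) v

/-- The component maps of the grading. -/
noncomputable def tc : ℤ → TM V x hx →+ TM V x hx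
  | Int.ofNat n => ((TM.inc V x hx n) ∘ₗ (TM.pr V x hx n)).toAddMonoidHom
  | Int.negSucc _ => 0

theorem tc_nat (n : ℕ) (m : TM V x hx) :
    tc V x hx (n : ℤ) m = TM.inc V x hx n (TM.pr V x hx n m) := rfl

theorem tc_mem (j : ℤ) (m : TM V x hx) : tc V x hx j m ∈ tgr V x hx j := by
  cases j with
  | ofNat n => exact inc_mem V x hx n _
  | negSucc n => exact zero_mem _

theorem tc_same (j : ℤ) (m : TM V x hx) (hm : m ∈ tgr V x hx j) : tc V x hx j m = m := by
  cases j with
  | ofNat n =>
    refine ext_pr V x hx fun k => ?_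
    by_cases h : n = k
    · subst h
      exact pr_inc V x hx n _
    · rw [hm k (fun h' => h (by have h2 : (k : ℤ) = (n : ℤ) := h'; omega))]
      exact pr_inc_ne V x hx h _
  | negSucc n =>
    refine ext_pr V x hx fun k => ?_
    rw [hm k (fun h => by simp at h)]
    exact map_zero _

theorem tc_ne (j l : ℤ) (m : TM V x hx) (h : j ≠ l) (hm : m ∈ tgr V x hx j) :
    tc V x hx l m = 0 := by
  cases l with
  | ofNat n =>
    change TM.inc V x hx n (TM.pr V x hx n m) = 0
    rw [hm n (fun h' => h h'.symm), map_zero]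
  | negSucc n => rfl

theorem tc_fin (m : TM V x hx) :
    ∃ s : Finset ℤ, (∀ i, i ∉ s → tc V x hx i m = 0) ∧ ∑ i ∈ s, tc V x hx i m = m := by
  classical
  refine ⟨(DFinsupp.support (β := V) m).map Nat.castEmbedding, fun i hi => ?_, ?_⟩
  · cases i with
    | ofNat n =>
      have h1 : TM.pr V x hx n m = 0 := by
        by_contra h
        exact hi (Finset.mem_map.2 ⟨n, DFinsupp.mem_support_iff.2 h, rfl⟩)
      change TM.inc V x hx n (TM.pr V x hx n m) = 0
      rw [h1, map_zero]
    | negSucc n => rfl
  · rw [Finset.sum_map]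
    exact DirectSum.sum_support_of (β := V) m

noncomputable instance tgr.decomposition : DirectSum.Decomposition (tgr V x hx) :=
  mkDecomp (tgr V x hx) (tc V x hx) (tc_mem V x hx) (tc_fin V x hx) (tc_same V x hx)
    (fun i j m => tc_ne V x hx i j m)

theorem X_smul_mem (i : Fin r) {j : ℤ} {m : TM V x hx} (hm : m ∈ tgr V x hx j) :
    (X i : MvPolynomial (Fin r) R) • m ∈ tgr V x hx (1 + j) := by
  intro k hk
  cases k with
  | zero => exact pr_X_smul_zero V x hx i m
  | succ n =>
    rw [pr_X_smul, hm n (fun h => hk (by push_cast; omega)), map_zero]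

theorem C_smul_mem (c : R) {j : ℤ} {m : TM V x hx} (hm : m ∈ tgr V x hx j) :
    (C c : MvPolynomial (Fin r) R) • m ∈ tgr V x hx j := by
  intro k hk
  rw [C_smul, map_smul, hm k hk, smul_zero]

theorem monomial_smul_mem (d : Fin r →₀ ℕ) : ∀ (c : R) {j : ℤ} {m : TM V x hx},
    m ∈ tgr V x hx j → (monomial d c : MvPolynomial (Fin r) R) • m ∈ tgr V x hx ((d.degree : ℤ) + j) := by
  induction d using Finsupp.induction_linear with
  | zero =>
    intro c j m hm
    have := C_smul_mem V x hx c hm
    simpa using this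
  | add d e hd he =>
    intro c j m hm
    have h1 : (monomial (d + e) c : MvPolynomial (Fin r) R) = monomial d c * monomial e 1 := by
      rw [monomial_mul, mul_one]
    rw [h1, mul_smul]
    have := hd c (he 1 hm)
    rw [map_add]
    push_cast
    rwa [add_assoc]
  | single i n =>
    intro c j m hm
    have h1 : (monomial (Finsupp.single i n) c : MvPolynomial (Fin r) R) = C c * X i ^ n := by
      rw [← C_mul_X_pow_eq_monomial]
    rw [h1, mul_smul]
    apply C_smul_mem
    have h2 : ∀ n : ℕ, (X i : MvPolynomial (Fin r) R) ^ n • m ∈ tgr V x hx ((n : ℤ) + j) := by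
      intro n
      induction n with
      | zero => simpa using hm
      | succ n ih =>
        rw [pow_succ', mul_smul]
        have := X_smul_mem V x hx i ih
        have e : (1 : ℤ) + ((n : ℤ) + j) = ((n + 1 : ℕ) : ℤ) + j := by push_cast; ring
        rwa [e] at this
    have := h2 n
    rwa [Finsupp.degree_single]

instance tgr.gsmul : SetLike.GradedSMul (gr R r) (tgr V x hx) where
  smul_mem {i j p m} hp hm := by
    rw [vadd_eq_add]
    have h1 : p • m = ∑ d ∈ p.support, (monomial d (coeff d p) : MvPolynomial (Fin r) R) • m := by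
      rw [← Finset.sum_smul, ← p.as_sum]
    rw [h1]
    refine sum_mem fun d hd => ?_
    have h2 : (d.degree : ℤ) = i := (K860.Basic.mem_stdGr i p).1 hp d (mem_support_iff.1 hd)
    rw [← h2]
    exact monomial_smul_mem V x hx d _ hm

end Groth.Agent.ResProp.EF.Fin669
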