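import Groth.Agent.ResProp.EF.Fin669.H0
import Groth.Agent.ResProp.EF.Fin669.Fam
import Groth.Agent.GrSyz.K860.Basic
import Mathlib.RingTheory.Polynomial.Basic

/-!
# The graded module over a polynomial ring attached to a family with commuting operators
-/

set_option autoImplicit false
set_option linter.unusedSectionVars false
universe u

open DirectSum GrLC K759.Gr MvPolynomial GrSyz

namespace Groth.Agent.ResProp.EF.Fin669

section Ring

variable (R : Type u) [CommRing R] (r : ℕ)

/-- The standard `ℤ`-grading of the polynomial ring by additive subgroups. -/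
noncomputable def gr : ℤ → AddSubgroup (MvPolynomial (Fin r) R) :=
  fun n => (stdGr R (Fin r) n).toAddSubgroup

theorem mem_gr {n : ℤ} {p : MvPolynomial (Fin r) R} : p ∈ gr R r n ↔ p ∈ stdGr R (Fin r) n :=
  Iff.rfl

noncomputable instance gr.decomposition : DirectSum.Decomposition (gr R r) :=
  mkDecomp (gr R r) (fun i => cmp (stdGr R (Fin r)) i)
    (fun i x => cmp_mem (stdGr R (Fin r)) i x)
    (fun x => exists_sum (stdGr R (Fin r)) x)
    (fun i x hx => cmp_same (stdGr R (Fin r)) hx)
    (fun i j x hij hx => cmp_ne (stdGr R (Fin r)) hij hx)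

noncomputable instance gr.gradedRing : GradedRing (gr R r) where
  one_mem := K860.Basic.one_mem'
  mul_mem _ _ _ _ ha hb := K860.Basic.mul_mem' ha hb
  __ := gr.decomposition R r

theorem X_mem_gr (i : Fin r) : (X i : MvPolynomial (Fin r) R) ∈ gr R r 1 := K860.Basic.X_mem i

/-- The ideal generated by the variables. -/
noncomputable def aX : HomogeneousIdeal (gr R r) where
  toSubmodule := Ideal.span (Set.range (X : Fin r → MvPolynomial (Fin r) R))
  is_homogeneous' := by
    refine Ideal.homogeneous_span (gr R r) _ ?_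
    rintro _ ⟨i, rfl⟩
    exact ⟨1, X_mem_gr R r i⟩

theorem aX_toIdeal : (aX R r).toIdeal = Ideal.span (Set.range (X : Fin r → MvPolynomial (Fin r) R)) :=
  rfl

theorem aX_eq : (aX R r).toIdeal =
    Ideal.span (⋃ n ∈ Set.Ioi (0 : ℤ), (gr R r n : Set (MvPolynomial (Fin r) R))) := by
  rw [aX_toIdeal]
  apply le_antisymm
  · rw [Ideal.span_le]
    rintro _ ⟨i, rfl⟩
    apply Ideal.subset_span
    simp only [Set.mem_iUnion, Set.mem_Ioi]
    exact ⟨1, one_pos, X_mem_gr R r i⟩
  · rw [Ideal.span_le]
    intro p hp
    simp only [Set.mem_iUnion, Set.mem_Ioi] at hp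
    obtain ⟨n, hn, hp⟩ := hp
    exact (K860.Basic.mem_span_X_iff p).2 (K860.Basic.constantCoeff_eq_zero (ne_of_gt hn) hp)

end Ring

section Total

variable {R : Type u} [CommRing R] {r : ℕ} (V : ℕ → Type u) [∀ n, AddCommGroup (V n)]
  [∀ n, Module R (V n)]

/-- The direct sum of the family. -/
abbrev T : Type u := DirectSum ℕ V

variable (x : Fin r → ∀ n, V n →ₗ[R] V (n + 1))

/-- The operator `x i` on the direct sum. -/
noncomputable def op (i : Fin r) : Module.End R (T V) :=
  DirectSum.toModule R ℕ (T V) (fun n => (DirectSum.lof R ℕ V (n + 1)) ∘ₗ (x i n))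

theorem op_lof (i : Fin r) (n : ℕ) (v : V n) :
    op V x i (DirectSum.lof R ℕ V n v) = DirectSum.lof R ℕ V (n + 1) (x i n v) := by
  rw [op, DirectSum.toModule_lof]
  rfl

theorem op_comm (hx : Comm x) (i i' : Fin r) : op V x i * op V x i' = op V x i' * op V x i := by
  refine DirectSum.linearMap_ext R fun n => ?_
  ext v : 1
  change op V x i (op V x i' (DirectSum.lof R ℕ V n v)) = op V x i' (op V x i (DirectSum.lof R ℕ V n v))
  rw [op_lof, op_lof, op_lof, op_lof, hx]

theorem op_apply_succ (i : Fin r) (m : T V) (n : ℕ) : (op V x i m) (n + 1) = x i n (m n) := by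
  classical
  induction m using DirectSum.induction_on with
  | zero => simp
  | of k v =>
    change (op V x i (DirectSum.lof R ℕ V k v)) (n + 1) = _
    rw [op_lof]
    change (DirectSum.of V (k + 1) (x i k v)) (n + 1) = x i n ((DirectSum.of V k v) n)
    by_cases h : k = n
    · subst h
      rw [DirectSum.of_eq_same, DirectSum.of_eq_same]
    · rw [DirectSum.of_eq_of_ne _ _ _ (by omega), DirectSum.of_eq_of_ne _ _ _ (by omega), map_zero]
  | add a b ha hb => rw [map_add, DirectSum.add_apply, ha, hb, DirectSum.add_apply, map_add]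

theorem op_apply_zero (i : Fin r) (m : T V) : (op V x i m) 0 = 0 := by
  classical
  induction m using DirectSum.induction_on with
  | zero => simp
  | of k v =>
    change (op V x i (DirectSum.lof R ℕ V k v)) 0 = _
    rw [op_lof]
    exact DirectSum.of_eq_of_ne _ _ _ (by omega)
  | add a b ha hb => rw [map_add, DirectSum.add_apply, ha, hb, add_zero]

/-- The algebra of operators. -/
noncomputable def act (hx : Comm x) : MvPolynomial (Fin r) R →+* Module.End R (T V) :=
  letI : CommRing (Algebra.adjoin R (Set.range (op V x))) :=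
    Algebra.adjoinCommRingOfComm R (by
      rintro _ ⟨i, rfl⟩ _ ⟨i', rfl⟩
      exact op_comm V x hx i i')
  (Algebra.adjoin R (Set.range (op V x))).val.toRingHom.comp
    (MvPolynomial.eval₂Hom (algebraMap R (Algebra.adjoin R (Set.range (op V x))))
      (fun i => ⟨op V x i, Algebra.subset_adjoin ⟨i, rfl⟩⟩))

theorem act_C (hx : Comm x) (c : R) (m : T V) : act V x hx (C c) m = c • m := by
  have h : act V x hx (C c) = algebraMap R (Module.End R (T V)) c := by
    simp [act]
  rw [h]
  rfl

theorem act_X (hx : Comm x) (i : Fin r) (m : T V) : act V x hx (X i) m = op V x i m := by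
  have h : act V x hx (X i) = op V x i := by
    simp [act]
  rw [h]

end Total

end Groth.Agent.ResProp.EF.Fin669
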